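import Groth.Agent.Lib.DTen.Values
import Groth.Agent.Lib.DualRing.ActTens
import Groth.Agent.Lib.DualRing.HomHD
import Groth.Agent.Lib.DualRing.InvertibleLocus
import Groth.Agent.Lib.DCxRHom.DualTensor

/-!
# A perfect object without higher endomorphisms is invertible
-/

set_option autoImplicit false
set_option linter.style.haveILetI false
set_option maxHeartbeats 1000000
universe u

open CategoryTheory CategoryTheory.Limits MonoidalCategory HomologicalComplex
open scoped TensorProduct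

attribute [local instance] HasDerivedCategory.standard

namespace GrothLib.DbEquiv3

variable {A : Type u} [CommRing A]

theorem isInvertible_of_isPerfect [DTen.HasLTen A] {Y : Dual.D A} (hY : DRing.IsPerfect A Y)
    (hvan : ∀ n : ℤ, n ≠ 0 → Subsingleton (Y ⟶ Y⟦n⟧))
    (hend : Function.Bijective fun r : A => r • 𝟙 Y) : DTen.IsInvertible A Y := by
  obtain ⟨P, a, b, hab, hP, ⟨e⟩⟩ := hY
  haveI : P.IsKProjective := GrothLib.DR.isKProjective P b (fun i hi => hab i (Or.inr hi)) (fun i => (hP i).2)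
  obtain ⟨I, g, hg, hI⟩ := GrothLib.RH.exists_resolution P
  haveI := hI
  haveI := hg
  let D := DRing.homCx P (GrothLib.RH.oneCx A)
  haveI hdt : IsIso (GrothLib.RH.dt P P) := GrothLib.RH.isIso_dt P hP hab
  haveI := GrothLib.RH.quasiIso_homCxMap_of_isKProjective P g
  let L := DerivedCategory.Q.obj D
  let eI : Y ≅ DRing.toD I :=
    e.symm ≪≫ @asIso _ _ _ _ (DerivedCategory.Q.map g) (GrothLib.DT.isIso_Q_map g)
  let φ : DerivedCategory.Q.obj (D ⊗ P) ≅ DRing.toD (DRing.homCx P I) :=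
    DerivedCategory.Q.mapIso (@asIso _ _ _ _ (GrothLib.RH.dt P P) hdt) ≪≫
      @asIso _ _ _ _ (DerivedCategory.Q.map (DRing.homCxMap P g)) (GrothLib.DT.isIso_Q_map _)
  have hH : ∀ n : ℤ, Nonempty (Dual.HD A (DerivedCategory.Q.obj (D ⊗ P)) n ≃ₗ[A] (Y ⟶ Y⟦n⟧)) := fun n =>
    ⟨((DerivedCategory.homologyFunctor (ModuleCat.{u} A) n).mapIso φ).toLinearEquiv.trans
      ((GrothLib.DualRing.exists_HD_homCx_equiv P I n).some.trans
        (Linear.homCongr A e ((CategoryTheory.shiftFunctor (Dual.D A) n).mapIso eI.symm)))⟩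
  obtain ⟨f⟩ := GrothLib.DualRing.nonempty_iso_shift_inD (C := A) (K := DerivedCategory.Q.obj (D ⊗ P)) 0
    (fun i hi => by
      haveI := hvan i (by omega)
      exact (hH i).some.toEquiv.subsingleton)
    ((hH (-0)).some.trans ((Linear.homCongr A (Iso.refl Y) ((shiftFunctorZero' (Dual.D A) (-(0:ℤ)) neg_zero).app Y)).trans
      (LinearEquiv.ofBijective (LinearMap.toSpanSingleton A (Y ⟶ Y) (𝟙 Y)) hend).symm))
  haveI := GrothLib.DT.kFlatComputes A
  have hPk : DRing.IsKFlat A P := GrothLib.KF.isKFlat_of_vanishesAbove (b := b) (fun i hi => hab i (Or.inr hi))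
    fun i => haveI := (hP i).2; inferInstanceAs (Module.Flat A (P.X i))
  haveI := DTen.KFlatComputes.isIso_counit D P (Or.inr hPk)
  let h1 : (DTen.LTen₂ A).obj (L, Y) ≅ DTen.unit A :=
    (DTen.LTen₂ A).mapIso (Iso.prod (Iso.refl L) e.symm) ≪≫ asIso ((DTen.ε A).app (D, P)) ≪≫ f ≪≫
      (shiftFunctorZero (Dual.D A) ℤ).app _
  haveI := GrothLib.DT.isIso_symm_app A Y L
  exact ⟨L, ⟨(asIso ((DTen.symm A).app (Y, L))).symm ≪≫ h1⟩, ⟨h1⟩⟩

end GrothLib.DbEquiv3
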