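import Groth.Agent.Lib.DCxRing.FibreSplit
import Groth.Agent.Lib.DCxRing.ColimHom
import Groth.Agent.Lib.DCxRing.Perfect
import Groth.Agent.Lib.DCxRing.Homology

/-!
# Perfect objects among the pseudo-coherent ones, by maps into the residue fields
-/

set_option autoImplicit false
set_option linter.style.haveILetI false
universe u

open CategoryTheory CategoryTheory.Limits HomologicalComplex TensorProduct

attribute [local instance] HasDerivedCategory.standard

namespace GrothLib.DbEquiv3

open GrothLib.DR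

variable {A : Type u} [CommRing A]

/-- A contraction in degree `i` up to the factor `f`. -/
def Contr (P : DRing.Cx A) (f : A) (i : ℤ) : Prop :=
  ∃ (u : P.X (i + 1) →ₗ[A] P.X i) (v : P.X i →ₗ[A] P.X (i - 1)),
    ∀ x, u ((P.d i (i + 1)).hom x) + (P.d (i - 1) i).hom (v x) = f • x

theorem contr_pred (P : DRing.Cx A) (f : A) {i j : ℤ} (hij : i - 1 = j) [Module.Projective A (P.X j)]
    (hex : P.ExactAt j) (h : Contr P f i) : Contr P f j := by
  obtain ⟨u, v, huv⟩ := h
  subst hij
  let w : P.X (i - 1) →ₗ[A] P.X (i - 1) := f • LinearMap.id - v.comp (P.d (i - 1) i).hom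
  have hw : ∀ y, w y ∈ LinearMap.range (P.d (i - 1 - 1) (i - 1)).hom := fun y => by
    have h1 := (function_exact_d P (i - 1 - 1) (i - 1) i (by omega) (by omega)).1 hex (w y)
    refine h1.1 ?_
    have h2 := huv ((P.d (i - 1) i).hom y)
    rw [show (P.d i (i + 1)).hom ((P.d (i - 1) i).hom y) = 0 from
      ConcreteCategory.congr_hom (P.d_comp_d (i - 1) i (i + 1)) y, map_zero, zero_add] at h2
    change (P.d (i - 1) i).hom (f • y - v ((P.d (i - 1) i).hom y)) = 0
    rw [map_sub, map_smul, h2, sub_self]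
  obtain ⟨v', hv'⟩ := Module.projective_lifting_property (P.d (i - 1 - 1) (i - 1)).hom.rangeRestrict
    (w.codRestrict _ hw) (LinearMap.surjective_rangeRestrict _)
  have hu : ∀ y, (v.comp ((eqToHom (congrArg P.X (show i - 1 + 1 = i by omega))).hom))
      ((P.d (i - 1) (i - 1 + 1)).hom y) = v ((P.d (i - 1) i).hom y) := fun y => by
    have : ∀ (k : ℤ) (hk : k = i), (eqToHom (congrArg P.X hk)).hom ((P.d (i - 1) k).hom y) = (P.d (i - 1) i).hom y := by
      rintro k rfl
      rfl
    exact congrArg v (this (i - 1 + 1) (by omega))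
  refine ⟨v.comp ((eqToHom (congrArg P.X (show i - 1 + 1 = i by omega))).hom), v', fun y => ?_⟩
  rw [hu, show (P.d (i - 1 - 1) (i - 1)).hom (v' y) = w y from congrArg Subtype.val (LinearMap.congr_fun hv' y)]
  simp [w]

theorem contr_below (P : DRing.Cx A) (f : A) {j a : ℤ} (hja : j < a) (hp : ∀ i, Module.Projective A (P.X i))
    (hex : ∀ i, i < a → P.ExactAt i) (h : Contr P f j) : ∀ n : ℕ, Contr P f (j - n) := by
  intro n
  induction n with
  | zero => simpa using h
  | succ n ih =>
    haveI := hp (j - (n + 1 : ℕ))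
    exact contr_pred P f (by push_cast; omega) (hex _ (by omega)) ih

/-- A contraction kills the homology after tensoring. -/
theorem smul_mem_range (P : DRing.Cx A) (f : A) (i : ℤ) (h : Contr P f i) (N : Type u) [AddCommGroup N]
    [Module A N] (z : P.X i ⊗[A] N) (hz : (P.d i (i + 1)).hom.rTensor N z = 0) :
    f • z ∈ LinearMap.range ((P.d (i - 1) i).hom.rTensor N) := by
  obtain ⟨u, v, huv⟩ := h
  refine ⟨v.rTensor N z, ?_⟩
  have h1 : (u.comp (P.d i (i + 1)).hom + (P.d (i - 1) i).hom.comp v).rTensor N z =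
      (f • (LinearMap.id : P.X i →ₗ[A] P.X i)).rTensor N z := by
    rw [show u.comp (P.d i (i + 1)).hom + (P.d (i - 1) i).hom.comp v = f • LinearMap.id from LinearMap.ext huv]
  rw [LinearMap.rTensor_add, LinearMap.add_apply, LinearMap.rTensor_comp_apply, LinearMap.rTensor_comp_apply,
    hz, map_zero, zero_add, LinearMap.rTensor_smul, LinearMap.smul_apply, LinearMap.rTensor_id,
    LinearMap.id_apply] at h1
  exact h1

variable (P : DRing.Cx A)

/-- The fibre is exact in degree `i` when no nonzero class maps to the residue field. -/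
theorem exactAt_bc_of_hom (m : Ideal A) [m.IsPrime] [P.IsKProjective] (i : ℤ)
    (h : Subsingleton (DRing.toD P ⟶ (Dual.inD A m.ResidueField)⟦-i⟧)) :
    ((bc (algebraMap A m.ResidueField)).obj P).ExactAt i := by
  rw [exactAt_bc_iff]
  rw [show (algebraMap A m.ResidueField).toAlgebra = (inferInstance : Algebra A m.ResidueField) from
    Algebra.algebra_ext _ _ fun _ => rfl]
  let κ := m.ResidueField
  let d₁ := (P.d (i - 1) i).hom
  let d₂ := (P.d i (i + 1)).hom
  have hdd : d₂.comp d₁ = 0 := LinearMap.ext fun x => ConcreteCategory.congr_hom (P.d_comp_d _ _ _) x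
  have hex : Function.Exact (d₁.baseChange κ) (d₂.baseChange κ) := by
    intro z
    refine ⟨fun hz => ?_, ?_⟩
    swap
    · rintro ⟨w, rfl⟩
      rw [← LinearMap.comp_apply, ← LinearMap.baseChange_comp, hdd, LinearMap.baseChange_zero,
        LinearMap.zero_apply]
    by_contra hmem
    obtain ⟨φ, hφz, hφ⟩ := Submodule.exists_dual_map_eq_bot_of_notMem (p := LinearMap.range (d₁.baseChange κ))
      hmem inferInstance
    have hφ0 : ∀ w, φ (d₁.baseChange κ w) = 0 := fun w =>
      (Submodule.mem_bot κ).1 (hφ ▸ Submodule.mem_map_of_mem ⟨w, rfl⟩)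
    let g : P.X i →ₗ[A] κ := (φ.restrictScalars A).comp (TensorProduct.mk A κ (P.X i) 1)
    have hg : ∀ x, g ((P.d (i - 1) i).hom x) = 0 := fun x => hφ0 ((1 : κ) ⊗ₜ[A] x)
    obtain ⟨u, hu⟩ := (toSingleD_eq_zero_iff P i g hg).1 (Subsingleton.elim _ _)
    have key : φ = (LinearMap.liftBaseChange κ u).comp (d₂.baseChange κ) := by
      refine TensorProduct.AlgebraTensorModule.ext fun c x => ?_
      rw [LinearMap.comp_apply, LinearMap.baseChange_tmul, LinearMap.liftBaseChange_tmul]
      refine Eq.trans ?_ (congrArg (c • ·) (hu x)).symm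
      change φ (c ⊗ₜ[A] x) = c • φ ((1 : κ) ⊗ₜ[A] x)
      rw [← map_smul, TensorProduct.smul_tmul', smul_eq_mul, mul_one]
    exact hφz (by rw [key, LinearMap.comp_apply, hz, map_zero])
  exact Function.Exact.of_ladder_linearEquiv_of_exact
      (f₁₂ := (d₁.baseChange κ).restrictScalars A) (f₂₃ := (d₂.baseChange κ).restrictScalars A)
      (g₁₂ := d₁.rTensor κ) (g₂₃ := d₂.rTensor κ)
      (e₁ := TensorProduct.comm A κ (P.X (i - 1))) (e₂ := TensorProduct.comm A κ (P.X i))
      (e₃ := TensorProduct.comm A κ (P.X (i + 1))) (TensorProduct.ext' fun _ _ => by simp)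
      (TensorProduct.ext' fun _ _ => by simp) hex

/-- A pseudo-coherent object with homology bounded below all of whose maps into residue fields
live in boundedly many degrees is perfect. -/
theorem isPerfect_of_hom_residue {K : Dual.D A} (hK : DRing.IsPseudoCoherent' A K) (a : ℤ)
    (ha : ∀ i, i < a → Subsingleton (Dual.HD A K i))
    (h : ∀ (m : Ideal A) [m.IsMaximal], ∃ n₀ : ℤ, ∀ i, i < n₀ →
      Subsingleton (K ⟶ (Dual.inD A m.ResidueField)⟦-i⟧)) :
    DRing.IsPerfect A K := by
  obtain ⟨P, c, hc, hf, ⟨e⟩⟩ := hK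
  have hp : ∀ i, Module.Projective A (P.X i) := fun i => projective_of_finiteFree hf i
  haveI : P.IsKProjective := GrothLib.DR.isKProjective P c hc hp
  have hex : ∀ i, i < a → P.ExactAt i := fun i hi =>
    (GrothLib.DR.exactAt_iff P i).2 (subsingleton_HD_of_iso e.symm i (ha i hi))
  let Q : Ideal A :=
    { carrier := {f | ∃ j, ∀ i, i ≤ j → ∀ (N : Type u) [AddCommGroup N] [Module A N] (z : P.X i ⊗[A] N),
        (P.d i (i + 1)).hom.rTensor N z = 0 → f • z ∈ LinearMap.range ((P.d (i - 1) i).hom.rTensor N)}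
      add_mem' := by
        rintro f g ⟨j, hj⟩ ⟨k, hk⟩
        refine ⟨min j k, fun i hi N _ _ z hz => ?_⟩
        rw [add_smul]
        exact add_mem (hj i (le_trans hi (min_le_left _ _)) N z hz) (hk i (le_trans hi (min_le_right _ _)) N z hz)
      zero_mem' := ⟨0, fun i _ N _ _ z _ => by rw [zero_smul]; exact zero_mem _⟩
      smul_mem' := by
        rintro r f ⟨j, hj⟩
        refine ⟨j, fun i hi N _ _ z hz => ?_⟩
        rw [smul_eq_mul, mul_smul]
        exact Submodule.smul_mem _ r (hj i hi N z hz) }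
  have hQ : Q = ⊤ := by
    by_contra hne
    obtain ⟨m, hm, hle⟩ := Ideal.exists_le_maximal Q hne
    haveI := hm
    obtain ⟨n₀, hn₀⟩ := h m
    let j := min (a - 1) (n₀ - 1)
    obtain ⟨f, u, v, hfm, huv⟩ := exists_contraction_near m P hf j (exactAt_bc_of_hom P m j
      (haveI := hn₀ j (by omega)
       (Iso.homCongr e (Iso.refl _)).subsingleton))
    refine hfm (hle ⟨j, fun i hi N _ _ z hz => smul_mem_range P f i ?_ N z hz⟩)
    obtain ⟨n, hn⟩ : ∃ n : ℕ, i = j - n := ⟨(j - i).toNat, by omega⟩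
    rw [hn]
    exact contr_below P f (by omega) hp hex ⟨u, v, huv⟩ n
  obtain ⟨J, hJ⟩ : (1 : A) ∈ Q := hQ ▸ Submodule.mem_top
  have hflat : DRing.TermwiseFlat P := termwiseFlat_of_projective hp
  refine isPerfect_iff.2 ⟨⟨P, c, hc, hf, ⟨e⟩⟩, min (J + 1) c, c, hasTorAmplitudeIn_of_iso e
    ((hasTorAmplitudeIn_iff hc hflat _ _).2 fun N _ _ i hi => ?_)⟩
  rcases hi with hi | hi
  · intro z
    refine ⟨fun hz => ?_, ?_⟩
    · have := hJ i (by omega) N z hz
      rwa [one_smul] at this
    · rintro ⟨w, rfl⟩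
      rw [← LinearMap.rTensor_comp_apply, show (P.d i (i + 1)).hom.comp (P.d (i - 1) i).hom = 0 from
        LinearMap.ext fun x => ConcreteCategory.congr_hom (P.d_comp_d _ _ _) x]
      simp
  · haveI := ModuleCat.subsingleton_of_isZero (hc i hi)
    intro z
    exact ⟨fun _ => ⟨0, Subsingleton.elim _ _⟩, fun _ => by rw [Subsingleton.elim z 0, map_zero]⟩

end GrothLib.DbEquiv3
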